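import Groth.Agent.Lib.EGA2.Dehom
import Mathlib.AlgebraicGeometry.ProjectiveSpectrum.Functor
import Mathlib.Algebra.Polynomial.Laurent
import Mathlib.Algebra.Polynomial.AlgebraMap

/-!
`S_f` is a Laurent polynomial ring over `S_(f)`, and `S[z]_(f)` a polynomial ring, for `f` of degree one.
-/

set_option autoImplicit false

open DirectSum HomogeneousLocalization LaurentPolynomial
open Groth.Agent.EGA2

universe u

noncomputable section

namespace Groth.Agent.ConeFib5

variable {R A : Type u} [CommRing R] [CommRing A] [Algebra R A]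
  (𝒜 : ℕ → Submodule R A) [GradedAlgebra 𝒜] {f : A} (hf : f ∈ 𝒜 1)

/-- `x ↦ (x / f ^ n) T ^ n` on `𝒜 n`. -/
def spreadPiece (n : ℕ) : 𝒜 n →+ (Away 𝒜 f)[T;T⁻¹] :=
  (AddMonoidHom.mulRight (T (n : ℤ))).comp
    ((C : Away 𝒜 f →+* (Away 𝒜 f)[T;T⁻¹]).toAddMonoidHom.comp (dehomPiece 𝒜 hf n))

theorem spreadPiece_apply (n : ℕ) (x : 𝒜 n) :
    spreadPiece 𝒜 hf n x = C (dehomPiece 𝒜 hf n x) * T (n : ℤ) := rfl

theorem spreadPiece_one (o : 𝒜 0) (ho : (o : A) = 1) : spreadPiece 𝒜 hf 0 o = 1 := by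
  have h1 : dehomPiece 𝒜 hf 0 o = 1 := by
    apply val_injective
    rw [val_dehomPiece, val_one, ← Localization.mk_one, ho]
    congr 1
    exact Subtype.ext (pow_zero f)
  rw [spreadPiece_apply, h1, map_one, Nat.cast_zero, T_zero, one_mul]

theorem spreadPiece_mul (i j : ℕ) (x : 𝒜 i) (y : 𝒜 j) (w : 𝒜 (i + j)) (hw : (w : A) = x * y) :
    spreadPiece 𝒜 hf (i + j) w = spreadPiece 𝒜 hf i x * spreadPiece 𝒜 hf j y := by
  have h1 : dehomPiece 𝒜 hf (i + j) w = dehomPiece 𝒜 hf i x * dehomPiece 𝒜 hf j y := by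
    apply val_injective
    rw [val_mul, val_dehomPiece, val_dehomPiece, val_dehomPiece, Localization.mk_mul, hw]
    congr 1
    exact Subtype.ext (pow_add f i j)
  rw [spreadPiece_apply, spreadPiece_apply, spreadPiece_apply, h1, map_mul, Nat.cast_add, T_add]
  ring

/-- `S → S_(f)[T;T⁻¹]`, `x ↦ (x / f ^ n) T ^ n` in degree `n`. -/
def spread : A →+* (Away 𝒜 f)[T;T⁻¹] :=
  (DirectSum.toSemiring (spreadPiece 𝒜 hf) (spreadPiece_one 𝒜 hf _ rfl)
    (fun {i j} x y => spreadPiece_mul 𝒜 hf i j x y _ rfl)).comp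
    (DirectSum.decomposeRingEquiv 𝒜).toRingHom

theorem spread_of_mem {n : ℕ} {x : A} (hx : x ∈ 𝒜 n) :
    spread 𝒜 hf x = C (Away.mk 𝒜 hf n x (by simpa using hx)) * T (n : ℤ) := by
  simp only [spread, RingHom.comp_apply, RingEquiv.toRingHom_eq_coe, RingHom.coe_coe]
  erw [DirectSum.decompose_of_mem 𝒜 hx, DirectSum.toSemiring_of]
  rfl

theorem spread_self : spread 𝒜 hf f = T 1 := by
  rw [spread_of_mem 𝒜 hf hf]
  have h1 : Away.mk 𝒜 hf 1 f (by simpa using hf) = 1 := by
    apply val_injective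
    rw [Away.val_mk, val_one, Localization.mk_eq_mk']
    simp only [pow_one]
    exact IsLocalization.mk'_self _ _
  rw [h1, map_one, Nat.cast_one, one_mul]

/-- `f / 1` as a unit of `S_f`. -/
def unitSelf (f : A) : (Localization.Away f)ˣ := (IsLocalization.Away.algebraMap_isUnit f).unit

/-- `S_(f)[T;T⁻¹] → S_f`, `T ↦ f`. -/
def toAway : (Away 𝒜 f)[T;T⁻¹] →+* Localization.Away f :=
  LaurentPolynomial.eval₂ (algebraMap (Away 𝒜 f) (Localization.Away f)) (unitSelf f)

theorem toAway_C (r : Away 𝒜 f) :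
    toAway 𝒜 (C r) = algebraMap (Away 𝒜 f) (Localization.Away f) r :=
  LaurentPolynomial.eval₂_C _ _ r

theorem toAway_T (n : ℤ) : toAway 𝒜 (T n : (Away 𝒜 f)[T;T⁻¹]) = ((unitSelf f ^ n : (Localization.Away f)ˣ) : Localization.Away f) :=
  LaurentPolynomial.eval₂_T _ _ n

include hf in
theorem toAway_bijective : Function.Bijective (toAway 𝒜 (f := f)) := by
  have hu : IsUnit (spread 𝒜 hf f) := by rw [spread_self]; exact isUnit_T 1
  let Ψ : Localization.Away f →+* (Away 𝒜 f)[T;T⁻¹] := IsLocalization.Away.lift f hu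
  have h1 : (toAway 𝒜).comp Ψ = RingHom.id _ := by
    refine IsLocalization.ringHom_ext (Submonoid.powers f) (RingHom.ext fun x => ?_)
    simp only [RingHom.comp_apply, RingHom.id_apply, Ψ, IsLocalization.Away.lift_eq]
    induction x using DirectSum.Decomposition.inductionOn 𝒜 with
    | zero => simp
    | @homogeneous n x =>
      rw [spread_of_mem 𝒜 hf x.2, map_mul, toAway_C, toAway_T, zpow_natCast, Units.val_pow_eq_pow_val,
        HomogeneousLocalization.algebraMap_apply, Away.val_mk, Localization.mk_eq_mk']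
      show _ * (algebraMap A (Localization.Away f) f) ^ n = _
      rw [← map_pow]
      exact IsLocalization.mk'_spec _ _ _
    | add a b ha hb => simp only [map_add, ha, hb]
  have h2 : Ψ.comp (toAway 𝒜) = RingHom.id _ := by
    have hT : ∀ n : ℕ, Ψ (algebraMap A (Localization.Away f) f ^ n) = T (n : ℤ) := fun n => by
      rw [map_pow, IsLocalization.Away.lift_eq, spread_self, T_pow, mul_one]
    have hC : ∀ r : Away 𝒜 f, Ψ (algebraMap (Away 𝒜 f) (Localization.Away f) r) = C r := by
      intro r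
      obtain ⟨n, a, ha, rfl⟩ := Away.mk_surjective 𝒜 hf r
      refine (isUnit_T (n : ℤ)).mul_right_cancel ?_
      have e : algebraMap (Away 𝒜 f) (Localization.Away f) (Away.mk 𝒜 hf n a ha) *
          algebraMap A (Localization.Away f) f ^ n = algebraMap A (Localization.Away f) a := by
        rw [HomogeneousLocalization.algebraMap_apply, Away.val_mk, Localization.mk_eq_mk', ← map_pow]
        exact IsLocalization.mk'_spec _ _ _
      conv_lhs => rw [← hT n, ← map_mul, e]
      rw [IsLocalization.Away.lift_eq, spread_of_mem 𝒜 hf (show a ∈ 𝒜 n by simpa using ha)]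
    refine RingHom.ext fun p => ?_
    induction p using LaurentPolynomial.induction_on' with
    | add p q hp hq => simp only [map_add, hp, hq]
    | C_mul_T n r =>
      simp only [RingHom.comp_apply, RingHom.id_apply, map_mul, toAway_C, hC]
      congr 1
      obtain ⟨m, rfl | rfl⟩ := n.eq_nat_or_neg
      · rw [toAway_T, zpow_natCast, Units.val_pow_eq_pow_val]
        exact hT m
      · refine (isUnit_T (m : ℤ)).mul_right_cancel ?_
        rw [← T_add, neg_add_cancel, T_zero]
        conv_lhs => rw [← hT m]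
        rw [← map_mul, toAway_T, zpow_neg, zpow_natCast,
          show algebraMap A (Localization.Away f) f ^ m = ((unitSelf f ^ m : (Localization.Away f)ˣ) : Localization.Away f) from
            (by rw [Units.val_pow_eq_pow_val]; rfl), Units.inv_mul, map_one]
  exact Function.bijective_iff_has_inverse.2
    ⟨Ψ, fun x => RingHom.congr_fun h2 x, fun x => RingHom.congr_fun h1 x⟩

variable {B : Type u} [CommRing B] [Algebra R B] {ℬ : ℕ → Submodule R B} [GradedAlgebra ℬ] [Algebra A B]
  (φ : 𝒜 →+*ᵍ ℬ) {z : B}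

/-- `S_(f)[T] → S[z]_(f)`, `T ↦ z / f`. -/
def toPAway (z : B) : Polynomial (Away 𝒜 f) →+* Away ℬ (φ f) :=
  Polynomial.eval₂RingHom (Away.map φ f) (dehom ℬ (φ.2 hf) z)

theorem toPAway_C (r : Away 𝒜 f) : toPAway 𝒜 hf φ z (Polynomial.C r) = Away.map φ f r :=
  Polynomial.eval₂_C _ _

theorem toPAway_bijective (hφ : ∀ a : A, φ a = algebraMap A B a)
    (hhat : Function.Bijective (Polynomial.aeval (R := A) z)) :
    Function.Bijective (toPAway 𝒜 hf φ z) := by
  have hsq : (toPAway 𝒜 hf φ z).comp (Polynomial.mapRingHom (dehom 𝒜 hf)) =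
      (dehom ℬ (φ.2 hf)).comp (Polynomial.aeval (R := A) z).toRingHom := by
    refine Polynomial.ringHom_ext (fun a => ?_) ?_
    · simp only [RingHom.comp_apply, Polynomial.coe_mapRingHom, Polynomial.map_C, toPAway_C,
        AlgHom.toRingHom_eq_coe, RingHom.coe_coe, Polynomial.aeval_C, ← hφ]
      induction a using DirectSum.Decomposition.inductionOn 𝒜 with
      | zero => simp
      | @homogeneous n x =>
        rw [dehom_of_mem 𝒜 hf x.2]
        erw [dehom_of_mem ℬ (φ.2 hf) (φ.2 x.2), Away.map_mk]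
        rfl
      | add a b ha hb => simp only [map_add, ha, hb]
    · simp [toPAway]
  have hsur : Function.Surjective (Polynomial.map (dehom 𝒜 hf)) :=
    Polynomial.map_surjective _ (dehom_surjective 𝒜 hf)
  refine ⟨(injective_iff_map_eq_zero _).2 fun q hq => ?_, fun y => ?_⟩
  · obtain ⟨P, rfl⟩ := hsur q
    have h0 : dehom ℬ (φ.2 hf) (Polynomial.aeval z P) = 0 :=
      (RingHom.congr_fun hsq P).symm.trans hq
    obtain ⟨b, hb⟩ := Ideal.mem_span_singleton.1 ((ker_dehom ℬ (φ.2 hf)).le (RingHom.mem_ker.2 h0))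
    obtain ⟨P', rfl⟩ := hhat.2 b
    have hP : P = (Polynomial.C f - 1) * P' := hhat.1 (by
      rw [hb, map_mul, map_sub, map_one, Polynomial.aeval_C, ← hφ]; rfl)
    rw [hP, Polynomial.map_mul, Polynomial.map_sub, Polynomial.map_C, dehom_self, Polynomial.map_one,
      map_one, sub_self, zero_mul]
  · obtain ⟨b, rfl⟩ := dehom_surjective ℬ (φ.2 hf) y
    obtain ⟨P, rfl⟩ := hhat.2 b
    exact ⟨_, RingHom.congr_fun hsq P⟩

end Groth.Agent.ConeFib5
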