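import Mathlib.AlgebraicGeometry.Fiber
import Mathlib.AlgebraicGeometry.Morphisms.FiniteType
import Mathlib.RingTheory.TensorProduct.MonoidAlgebra
import Mathlib.RingTheory.PolynomialAlgebra
import Mathlib.Algebra.Polynomial.Laurent

/-!
Fibres of a morphism whose charts are spectra of (Laurent) polynomial rings.
-/

set_option autoImplicit false
set_option linter.style.haveILetI false
set_option backward.isDefEq.respectTransparency false

open CategoryTheory CategoryTheory.Limits AlgebraicGeometry TensorProduct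

universe u

noncomputable section

namespace Groth.Agent.ConeFib5

theorem exists_pullback_spec_iso {B C K F : Type u} [CommRing B] [CommRing C] [CommRing K] [CommRing F]
    [Algebra B C] [Algebra B K] (E : K ⊗[B] C ≃+* F) (a : K →+* F) (hE : ∀ k : K, E (k ⊗ₜ 1) = a k) :
    ∃ e : pullback (Spec.map (CommRingCat.ofHom (algebraMap B C)))
        (Spec.map (CommRingCat.ofHom (algebraMap B K))) ≅ Spec (CommRingCat.of F),
      e.hom ≫ Spec.map (CommRingCat.ofHom a) = pullback.snd _ _ := by
  let E' : C ⊗[B] K ≃+* F := (Algebra.TensorProduct.comm B C K).toRingEquiv.trans E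
  refine ⟨pullbackSpecIso B C K ≪≫ Scheme.Spec.mapIso (E'.toCommRingCatIso.op).symm, ?_⟩
  rw [← pullbackSpecIso_hom_snd]
  simp only [Iso.trans_hom, Category.assoc]
  congr 1
  show Spec.map _ ≫ _ = _
  rw [← Spec.map_comp]
  congr 1
  ext k
  apply E'.injective
  show E' (E'.symm (a k)) = E' ((1 : C) ⊗ₜ k)
  rw [RingEquiv.apply_symm_apply]
  show a k = E (Algebra.TensorProduct.comm B C K ((1 : C) ⊗ₜ k))
  rw [Algebra.TensorProduct.comm_tmul, hE]

theorem exists_fibre_iso {E X : Scheme.{u}} (π : E ⟶ X) {B C : CommRingCat.{u}} (φ : B ⟶ C)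
    (j : Spec B ⟶ X) [IsOpenImmersion j] (c : Spec C ⟶ E) (sq : IsPullback (Spec.map φ) c j π)
    (x : X) (hx : x ∈ j.opensRange) (F : Type u) [CommRing F] (a : X.residueField x →+* F)
    (key : ∀ g : B →+* X.residueField x,
      letI := g.toAlgebra
      letI := φ.hom.toAlgebra
      ∃ Ev : (X.residueField x) ⊗[B] C ≃+* F, ∀ k, Ev (k ⊗ₜ 1) = a k) :
    ∃ e : pullback π (X.fromSpecResidueField x) ≅ Spec (CommRingCat.of F),
      e.hom ≫ Spec.map (CommRingCat.ofHom a) = pullback.snd π (X.fromSpecResidueField x) := by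
  obtain ⟨y, rfl⟩ := hx
  let h : Spec (X.residueField (j y)) ⟶ Spec B :=
    IsOpenImmersion.lift j (X.fromSpecResidueField (j y))
      (by rw [Scheme.range_fromSpecResidueField]; rintro _ rfl; exact ⟨y, rfl⟩)
  obtain ⟨g, hg⟩ : ∃ g, Spec.map g = h := ⟨Spec.preimage h, Spec.map_preimage h⟩
  have hh : Spec.map g ≫ j = X.fromSpecResidueField (j y) := hg ▸ IsOpenImmersion.lift_fac _ _ _
  letI := g.hom.toAlgebra
  letI := φ.hom.toAlgebra
  obtain ⟨Ev, hEv⟩ := key g.hom
  obtain ⟨e, he⟩ := exists_pullback_spec_iso (B := B) (C := C) (K := X.residueField (j y)) Ev a hEv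
  have big : IsPullback (pullback.fst (Spec.map φ) (Spec.map g) ≫ c) (pullback.snd (Spec.map φ) (Spec.map g))
      π (Spec.map g ≫ j) := (IsPullback.of_hasPullback (Spec.map φ) (Spec.map g)).paste_horiz sq.flip
  rw [hh] at big
  refine ⟨big.isoPullback.symm ≪≫ e, ?_⟩
  rw [Iso.trans_hom, Category.assoc]
  erw [he]
  exact big.isoPullback_inv_snd

theorem laurent_key {B C K : Type u} [CommRing B] [CommRing C] [CommRing K] [Algebra B C] [Algebra B K]
    (E : LaurentPolynomial B →+* C) (hE : Function.Bijective E)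
    (hC : ∀ b, E (LaurentPolynomial.C b) = algebraMap B C b) :
    ∃ Ev : K ⊗[B] C ≃+* LaurentPolynomial K, ∀ k, Ev (k ⊗ₜ 1) = algebraMap K _ k := by
  have hcm : ∀ b, E (algebraMap B (AddMonoidAlgebra B ℤ) b) = algebraMap B C b := fun b => by
    rw [← hC b]; rfl
  let e : AddMonoidAlgebra B ℤ ≃ₐ[B] C := AlgEquiv.ofRingEquiv (f := RingEquiv.ofBijective E hE) hcm
  refine ⟨((Algebra.TensorProduct.congr (AlgEquiv.refl (R := K) (A₁ := K)) e.symm).trans
    (AddMonoidAlgebra.scalarTensorEquiv B K)).toRingEquiv, fun k => ?_⟩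
  simp [Algebra.algebraMap_eq_smul_one, map_one]

theorem poly_key {B C K : Type u} [CommRing B] [CommRing C] [CommRing K] [Algebra B C] [Algebra B K]
    (E : Polynomial B →+* C) (hE : Function.Bijective E)
    (hC : ∀ b, E (Polynomial.C b) = algebraMap B C b) :
    ∃ Ev : K ⊗[B] C ≃+* Polynomial K, ∀ k, Ev (k ⊗ₜ 1) = algebraMap K _ k := by
  let e : Polynomial B ≃ₐ[B] C := AlgEquiv.ofRingEquiv (f := RingEquiv.ofBijective E hE) hC
  refine ⟨((Algebra.TensorProduct.congr (AlgEquiv.refl (R := K) (A₁ := K)) e.symm).toRingEquiv.trans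
    (polyEquivTensor B K).symm.toRingEquiv), fun k => ?_⟩
  simp [Polynomial.smul_eq_C_mul]

theorem finiteType_laurent {B C : Type u} [CommRing B] [CommRing C] (φ : B →+* C)
    (E : LaurentPolynomial B →+* C) (hE : Function.Surjective E)
    (hC : ∀ b, E (LaurentPolynomial.C b) = φ b) : φ.FiniteType := by
  have h : φ = E.comp LaurentPolynomial.C := RingHom.ext fun b => (hC b).symm
  rw [h]
  refine (RingHom.FiniteType.of_surjective _ hE).comp ?_
  have : Algebra.FiniteType B (AddMonoidAlgebra B ℤ) := inferInstance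
  exact RingHom.finiteType_algebraMap.2 this

end Groth.Agent.ConeFib5

namespace Groth.Agent.ConeFib5

theorem ring_finiteType_laurent {B : Type u} [CommRing B] :
    (LaurentPolynomial.C : B →+* LaurentPolynomial B).FiniteType := by
  have : Algebra.FiniteType B (AddMonoidAlgebra B ℤ) := inferInstance
  exact RingHom.finiteType_algebraMap.2 this

/-- A morphism covered by affine charts with prescribed fibres. -/
theorem of_charts {E X : Scheme.{u}} (π : E ⟶ X) (F : ∀ K : CommRingCat.{u}, CommRingCat.{u})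
    (a : ∀ K : CommRingCat.{u}, K →+* F K)
    (h : ∀ x : X, ∃ (B C : CommRingCat.{u}) (φ : B ⟶ C) (j : Spec B ⟶ X) (_ : IsOpenImmersion j) (c : Spec C ⟶ E),
      x ∈ j.opensRange ∧ IsPullback (Spec.map φ) c j π ∧ φ.hom.FiniteType ∧
        ∀ g : B →+* X.residueField x,
          letI := g.toAlgebra
          letI := φ.hom.toAlgebra
          ∃ Ev : (X.residueField x) ⊗[B] C ≃+* F (X.residueField x), ∀ k, Ev (k ⊗ₜ 1) = a _ k) :
    LocallyOfFiniteType π ∧ QuasiCompact π ∧
      ∀ x : X, ∃ e : pullback π (X.fromSpecResidueField x) ≅ Spec (F (X.residueField x)),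
        e.hom ≫ Spec.map (CommRingCat.ofHom (a (X.residueField x))) =
          pullback.snd π (X.fromSpecResidueField x) := by
  choose B C φ j hj c hx sq hft key using h
  haveI := hj
  let 𝒰 : X.OpenCover := Scheme.Cover.mkOfCovers (X : Type u) (fun x => Spec (B x)) j
    (fun x => ⟨x, (hx x).choose, (hx x).choose_spec⟩) (fun x => hj x)
  have loc : ∀ (P : MorphismProperty Scheme.{u}) [IsZariskiLocalAtTarget P],
      (∀ x, P (Spec.map (φ x))) → P π := by
    intro P _ hP
    refine IsZariskiLocalAtTarget.of_openCover 𝒰 fun x => ?_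
    refine (P.arrow_mk_iso_iff (Arrow.isoMk ((sq x).flip.isoPullback) (Iso.refl _) (by
      simp only [Functor.id_obj, Arrow.mk_right, Arrow.mk_left, Arrow.mk_hom, Iso.refl_hom, Category.comp_id]
      exact (sq x).flip.isoPullback_hom_snd))).1 (hP x)
  refine ⟨loc @LocallyOfFiniteType fun x => ?_, ?_, fun x => ?_⟩
  · rw [HasRingHomProperty.Spec_iff (P := @LocallyOfFiniteType)]
    exact hft x
  · haveI : IsAffineHom π := loc @IsAffineHom fun x => isAffineHom_of_isAffine _
    infer_instance
  · exact exists_fibre_iso π (φ x) (j x) (c x) (sq x) x (hx x) _ _ (key x)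

end Groth.Agent.ConeFib5
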