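import Mathlib.AlgebraicGeometry.ProjectiveSpectrum.Functor
import Mathlib.AlgebraicGeometry.ProjectiveSpectrum.Basic
import Mathlib.RingTheory.Ideal.Quotient.Operations
import Mathlib.Algebra.Polynomial.Laurent
import Mathlib.Algebra.Polynomial.AlgebraMap

/-!
`S_f` is a Laurent polynomial ring over `S_(f)`, and `S[z]_(f)` a polynomial ring, for `f` of degree one
(gradings by any additive subgroup classes).
-/

set_option autoImplicit false
set_option linter.unusedSectionVars false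

open DirectSum HomogeneousLocalization LaurentPolynomial

universe u

noncomputable section

namespace Groth.Agent.ConeFib5.Gen

variable {A σ : Type u} [CommRing A] [SetLike σ A] [AddSubgroupClass σ A] (𝒜 : ℕ → σ) [GradedRing 𝒜]
  {f : A} (hf : f ∈ 𝒜 1)

/-- `x ↦ x / f ^ n` on `𝒜 n`. -/
def piece (n : ℕ) : 𝒜 n →+ Away 𝒜 f :=
  AddMonoidHom.mk' (fun x => Away.mk 𝒜 hf n x.1 (by simp)) fun x y => by
    apply val_injective
    rw [val_add, Away.val_mk, Away.val_mk, Away.val_mk, AddMemClass.coe_add, Localization.add_mk_self]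

theorem val_piece (n : ℕ) (x : 𝒜 n) :
    (piece 𝒜 hf n x).val = Localization.mk x.1 ⟨f ^ n, pow_mem (Submonoid.mem_powers f) n⟩ :=
  Away.val_mk _ _ hf _ _

theorem piece_one (o : 𝒜 0) (ho : (o : A) = 1) : piece 𝒜 hf 0 o = 1 := by
  apply val_injective
  rw [val_piece, val_one, ← Localization.mk_one, ho]
  congr 1
  exact Subtype.ext (pow_zero f)

theorem piece_mul (i j : ℕ) (x : 𝒜 i) (y : 𝒜 j) (w : 𝒜 (i + j)) (hw : (w : A) = x * y) :
    piece 𝒜 hf (i + j) w = piece 𝒜 hf i x * piece 𝒜 hf j y := by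
  apply val_injective
  rw [val_mul, val_piece, val_piece, val_piece, Localization.mk_mul, hw]
  congr 1
  exact Subtype.ext (pow_add f i j)

/-- Dehomogenisation. -/
def dehom : A →+* Away 𝒜 f :=
  (DirectSum.toSemiring (piece 𝒜 hf) (piece_one 𝒜 hf _ rfl)
    (fun {i j} x y => piece_mul 𝒜 hf i j x y _ rfl)).comp (DirectSum.decomposeRingEquiv 𝒜).toRingHom

theorem dehom_of_mem {n : ℕ} {x : A} (hx : x ∈ 𝒜 n) :
    dehom 𝒜 hf x = Away.mk 𝒜 hf n x (by simpa using hx) := by
  simp only [dehom, RingHom.comp_apply, RingEquiv.toRingHom_eq_coe, RingHom.coe_coe]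
  erw [DirectSum.decompose_of_mem 𝒜 hx, DirectSum.toSemiring_of]
  rfl

theorem mk_self : Away.mk 𝒜 hf 1 f (by simpa using hf) = 1 := by
  apply val_injective
  rw [Away.val_mk, val_one, Localization.mk_eq_mk']
  simp only [pow_one]
  exact IsLocalization.mk'_self _ _

theorem dehom_self : dehom 𝒜 hf f = 1 := by
  rw [dehom_of_mem 𝒜 hf hf, mk_self]

theorem dehom_surjective : Function.Surjective (dehom 𝒜 hf) := by
  intro x
  obtain ⟨n, b, hb, rfl⟩ := Away.mk_surjective 𝒜 hf x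
  exact ⟨b, dehom_of_mem 𝒜 hf (by simpa using hb)⟩

include hf in
theorem exists_homogenize (b : A) :
    ∃ N, ∀ M, N ≤ M → ∃ c ∈ 𝒜 M, b - c ∈ Ideal.span {f - 1} := by
  have hpow : ∀ (k : ℕ) (x : A), x - f ^ k * x ∈ Ideal.span {f - 1} := fun k x => by
    rw [show x - f ^ k * x = -(f ^ k - 1 ^ k) * x by ring]
    exact Ideal.mul_mem_right _ _ (neg_mem (Ideal.mem_span_singleton.2 (sub_dvd_pow_sub_pow f 1 k)))
  induction b using DirectSum.Decomposition.inductionOn 𝒜 with
  | zero => exact ⟨0, fun M _ => ⟨0, zero_mem _, by simp⟩⟩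
  | @homogeneous n x =>
    refine ⟨n, fun M hM => ⟨f ^ (M - n) * x, ?_, hpow _ _⟩⟩
    have := SetLike.mul_mem_graded (SetLike.pow_mem_graded (M - n) hf) x.2
    rwa [smul_eq_mul, mul_one, Nat.sub_add_cancel hM] at this
  | add x y hx hy =>
    obtain ⟨N, hN⟩ := hx
    obtain ⟨N', hN'⟩ := hy
    refine ⟨max N N', fun M hM => ?_⟩
    obtain ⟨c, hc, hc'⟩ := hN M (le_trans (le_max_left _ _) hM)
    obtain ⟨c₂, hc₂, hc₂'⟩ := hN' M (le_trans (le_max_right _ _) hM)
    exact ⟨c + c₂, add_mem hc hc₂, by rw [add_sub_add_comm]; exact add_mem hc' hc₂'⟩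

theorem ker_dehom : RingHom.ker (dehom 𝒜 hf) = Ideal.span {f - 1} := by
  have hspan : ∀ y ∈ Ideal.span {f - 1}, dehom 𝒜 hf y = 0 := fun y hy => by
    obtain ⟨z, rfl⟩ := Ideal.mem_span_singleton.1 hy
    rw [map_mul, map_sub, dehom_self, map_one, sub_self, zero_mul]
  refine le_antisymm (fun b hb => ?_) fun y hy => RingHom.mem_ker.2 (hspan y hy)
  obtain ⟨N, hN⟩ := exists_homogenize 𝒜 hf b
  obtain ⟨c, hc, hbc⟩ := hN N le_rfl
  have h0 : dehom 𝒜 hf c = 0 := by
    have := hspan _ hbc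
    rw [map_sub, RingHom.mem_ker.1 hb, zero_sub, neg_eq_zero] at this
    exact this
  rw [dehom_of_mem 𝒜 hf hc] at h0
  replace h0 := congrArg HomogeneousLocalization.val h0
  rw [Away.val_mk, val_zero, Localization.mk_eq_mk', IsLocalization.mk'_eq_zero_iff] at h0
  obtain ⟨⟨_, k, rfl⟩, hk⟩ := h0
  have hc0 : c ∈ Ideal.span {f - 1} := by
    rw [show c = -(f ^ k - 1 ^ k) * c by rw [neg_sub, sub_mul, show f ^ k * c = 0 from hk, sub_zero, one_pow, one_mul]]
    exact Ideal.mul_mem_right _ _ (neg_mem (Ideal.mem_span_singleton.2 (sub_dvd_pow_sub_pow f 1 k)))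
  simpa using add_mem hbc hc0

/-- `x ↦ (x / f ^ n) T ^ n` on `𝒜 n`. -/
def lpiece (n : ℕ) : 𝒜 n →+ (Away 𝒜 f)[T;T⁻¹] :=
  (AddMonoidHom.mulRight (T (n : ℤ))).comp
    ((C : Away 𝒜 f →+* (Away 𝒜 f)[T;T⁻¹]).toAddMonoidHom.comp (piece 𝒜 hf n))

theorem lpiece_apply (n : ℕ) (x : 𝒜 n) : lpiece 𝒜 hf n x = C (piece 𝒜 hf n x) * T (n : ℤ) := rfl

theorem lpiece_one (o : 𝒜 0) (ho : (o : A) = 1) : lpiece 𝒜 hf 0 o = 1 := by
  rw [lpiece_apply, piece_one 𝒜 hf o ho, map_one, Nat.cast_zero, T_zero, one_mul]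

theorem lpiece_mul (i j : ℕ) (x : 𝒜 i) (y : 𝒜 j) (w : 𝒜 (i + j)) (hw : (w : A) = x * y) :
    lpiece 𝒜 hf (i + j) w = lpiece 𝒜 hf i x * lpiece 𝒜 hf j y := by
  rw [lpiece_apply, lpiece_apply, lpiece_apply, piece_mul 𝒜 hf i j x y w hw, map_mul, Nat.cast_add, T_add]
  ring

/-- `S → S_(f)[T;T⁻¹]`. -/
def spread : A →+* (Away 𝒜 f)[T;T⁻¹] :=
  (DirectSum.toSemiring (lpiece 𝒜 hf) (lpiece_one 𝒜 hf _ rfl)
    (fun {i j} x y => lpiece_mul 𝒜 hf i j x y _ rfl)).comp (DirectSum.decomposeRingEquiv 𝒜).toRingHom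

theorem spread_of_mem {n : ℕ} {x : A} (hx : x ∈ 𝒜 n) :
    spread 𝒜 hf x = C (Away.mk 𝒜 hf n x (by simpa using hx)) * T (n : ℤ) := by
  simp only [spread, RingHom.comp_apply, RingEquiv.toRingHom_eq_coe, RingHom.coe_coe]
  erw [DirectSum.decompose_of_mem 𝒜 hx, DirectSum.toSemiring_of]
  rfl

theorem spread_self : spread 𝒜 hf f = T 1 := by
  rw [spread_of_mem 𝒜 hf hf, mk_self, map_one, Nat.cast_one, one_mul]

/-- `f / 1` as a unit of `S_f`. -/
def unitSelf (f : A) : (Localization.Away f)ˣ := (IsLocalization.Away.algebraMap_isUnit f).unit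

/-- `S_(f)[T;T⁻¹] → S_f`, `T ↦ f`. -/
def toAway : (Away 𝒜 f)[T;T⁻¹] →+* Localization.Away f :=
  LaurentPolynomial.eval₂ (algebraMap (Away 𝒜 f) (Localization.Away f)) (unitSelf f)

theorem toAway_C (r : Away 𝒜 f) :
    toAway 𝒜 (C r) = algebraMap (Away 𝒜 f) (Localization.Away f) r :=
  LaurentPolynomial.eval₂_C _ _ r

theorem toAway_T (n : ℤ) : toAway 𝒜 (T n : (Away 𝒜 f)[T;T⁻¹]) = ((unitSelf f ^ n : (Localization.Away f)ˣ) : Localization.Away f) :=
  LaurentPolynomial.eval₂_T _ _ n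

include hf in
theorem toAway_bijective : Function.Bijective (toAway 𝒜 (f := f)) := by
  have hu : IsUnit (spread 𝒜 hf f) := by rw [spread_self]; exact isUnit_T 1
  let Ψ : Localization.Away f →+* (Away 𝒜 f)[T;T⁻¹] := IsLocalization.Away.lift f hu
  have h1 : (toAway 𝒜).comp Ψ = RingHom.id _ := by
    refine IsLocalization.ringHom_ext (Submonoid.powers f) (RingHom.ext fun x => ?_)
    simp only [RingHom.comp_apply, RingHom.id_apply, Ψ, IsLocalization.Away.lift_eq]
    induction x using DirectSum.Decomposition.inductionOn 𝒜 with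
    | zero => simp
    | @homogeneous n x =>
      rw [spread_of_mem 𝒜 hf x.2, map_mul, toAway_C, toAway_T, zpow_natCast, Units.val_pow_eq_pow_val,
        HomogeneousLocalization.algebraMap_apply, Away.val_mk, Localization.mk_eq_mk']
      show _ * (algebraMap A (Localization.Away f) f) ^ n = _
      rw [← map_pow]
      exact IsLocalization.mk'_spec _ _ _
    | add a b ha hb => simp only [map_add, ha, hb]
  have h2 : Ψ.comp (toAway 𝒜) = RingHom.id _ := by
    have hT : ∀ n : ℕ, Ψ (algebraMap A (Localization.Away f) f ^ n) = T (n : ℤ) := fun n => by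
      rw [map_pow, IsLocalization.Away.lift_eq, spread_self, T_pow, mul_one]
    have hC : ∀ r : Away 𝒜 f, Ψ (algebraMap (Away 𝒜 f) (Localization.Away f) r) = C r := by
      intro r
      obtain ⟨n, a, ha, rfl⟩ := Away.mk_surjective 𝒜 hf r
      refine (isUnit_T (n : ℤ)).mul_right_cancel ?_
      have e : algebraMap (Away 𝒜 f) (Localization.Away f) (Away.mk 𝒜 hf n a ha) *
          algebraMap A (Localization.Away f) f ^ n = algebraMap A (Localization.Away f) a := by
        rw [HomogeneousLocalization.algebraMap_apply, Away.val_mk, Localization.mk_eq_mk', ← map_pow]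
        exact IsLocalization.mk'_spec _ _ _
      conv_lhs => rw [← hT n, ← map_mul, e]
      rw [IsLocalization.Away.lift_eq, spread_of_mem 𝒜 hf (show a ∈ 𝒜 n by simpa using ha)]
    refine RingHom.ext fun p => ?_
    induction p using LaurentPolynomial.induction_on' with
    | add p q hp hq => simp only [map_add, hp, hq]
    | C_mul_T n r =>
      simp only [RingHom.comp_apply, RingHom.id_apply, map_mul, toAway_C, hC]
      congr 1
      obtain ⟨m, rfl | rfl⟩ := n.eq_nat_or_neg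
      · rw [toAway_T, zpow_natCast, Units.val_pow_eq_pow_val]
        exact hT m
      · refine (isUnit_T (m : ℤ)).mul_right_cancel ?_
        rw [← T_add, neg_add_cancel, T_zero]
        conv_lhs => rw [← hT m]
        rw [← map_mul, toAway_T, zpow_neg, zpow_natCast,
          show algebraMap A (Localization.Away f) f ^ m = ((unitSelf f ^ m : (Localization.Away f)ˣ) : Localization.Away f) from
            (by rw [Units.val_pow_eq_pow_val]; rfl), Units.inv_mul, map_one]
  exact Function.bijective_iff_has_inverse.2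
    ⟨Ψ, fun x => RingHom.congr_fun h2 x, fun x => RingHom.congr_fun h1 x⟩

variable {B τ : Type u} [CommRing B] [SetLike τ B] [AddSubgroupClass τ B] {ℬ : ℕ → τ} [GradedRing ℬ]
  (φ : 𝒜 →+*ᵍ ℬ) (g : A →+* B) (z : B)

/-- `S_(f)[T] → S[z]_(f)`, `T ↦ z / f`. -/
def toPAway : Polynomial (Away 𝒜 f) →+* Away ℬ (φ f) :=
  Polynomial.eval₂RingHom (Away.map φ f) (dehom ℬ (φ.2 hf) z)

theorem toPAway_C (r : Away 𝒜 f) : toPAway 𝒜 hf φ z (Polynomial.C r) = Away.map φ f r :=
  Polynomial.eval₂_C _ _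

theorem toPAway_bijective (hφ : ∀ a : A, φ a = g a)
    (hhat : Function.Bijective (Polynomial.eval₂RingHom g z)) :
    Function.Bijective (toPAway 𝒜 hf φ z) := by
  have hsq : (toPAway 𝒜 hf φ z).comp (Polynomial.mapRingHom (dehom 𝒜 hf)) =
      (dehom ℬ (φ.2 hf)).comp (Polynomial.eval₂RingHom g z) := by
    refine Polynomial.ringHom_ext (fun a => ?_) ?_
    · simp only [RingHom.comp_apply, Polynomial.coe_mapRingHom, Polynomial.map_C, toPAway_C,
        Polynomial.coe_eval₂RingHom, Polynomial.eval₂_C, ← hφ]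
      induction a using DirectSum.Decomposition.inductionOn 𝒜 with
      | zero => simp
      | @homogeneous n x =>
        rw [dehom_of_mem 𝒜 hf x.2]
        erw [dehom_of_mem ℬ (φ.2 hf) (φ.2 x.2), Away.map_mk]
        rfl
      | add a b ha hb => simp only [map_add, ha, hb]
    · simp [toPAway]
  have hsur : Function.Surjective (Polynomial.map (dehom 𝒜 hf)) :=
    Polynomial.map_surjective _ (dehom_surjective 𝒜 hf)
  refine ⟨(injective_iff_map_eq_zero _).2 fun q hq => ?_, fun y => ?_⟩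
  · obtain ⟨P, rfl⟩ := hsur q
    have h0 : dehom ℬ (φ.2 hf) (Polynomial.eval₂RingHom g z P) = 0 :=
      (RingHom.congr_fun hsq P).symm.trans hq
    obtain ⟨b, hb⟩ := Ideal.mem_span_singleton.1 ((ker_dehom ℬ (φ.2 hf)).le (RingHom.mem_ker.2 h0))
    obtain ⟨P', rfl⟩ := hhat.2 b
    have hP : P = (Polynomial.C f - 1) * P' := hhat.1 (by
      rw [hb, map_mul, map_sub, map_one]
      congr 2
      exact (hφ f).trans (Polynomial.eval₂_C g z).symm)
    rw [hP, Polynomial.map_mul, Polynomial.map_sub, Polynomial.map_C, dehom_self, Polynomial.map_one,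
      map_one, sub_self, zero_mul]
  · obtain ⟨b, rfl⟩ := dehom_surjective ℬ (φ.2 hf) y
    obtain ⟨P, rfl⟩ := hhat.2 b
    exact ⟨_, RingHom.congr_fun hsq P⟩

theorem irrelevant_le_span (hgen : Subring.closure ((𝒜 0 : Set A) ∪ (𝒜 1 : Set A)) = ⊤) :
    (HomogeneousIdeal.irrelevant 𝒜).toIdeal ≤ Ideal.span (𝒜 1 : Set A) := by
  have key : ∀ x : A, ∃ a ∈ 𝒜 0, x - a ∈ Ideal.span (𝒜 1 : Set A) := fun x => by
    have hx : x ∈ Subring.closure ((𝒜 0 : Set A) ∪ (𝒜 1 : Set A)) := hgen ▸ Subring.mem_top x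
    induction hx using Subring.closure_induction with
    | mem y hy =>
      rcases hy with hy | hy
      · exact ⟨y, hy, by simp⟩
      · exact ⟨0, zero_mem _, by rw [sub_zero]; exact Ideal.subset_span hy⟩
    | zero => exact ⟨0, zero_mem _, by simp⟩
    | one => exact ⟨1, SetLike.one_mem_graded 𝒜, by simp⟩
    | add y y' _ _ hy hy' =>
      obtain ⟨a, ha, h⟩ := hy; obtain ⟨b, hb, h'⟩ := hy'
      exact ⟨a + b, add_mem ha hb, by rw [add_sub_add_comm]; exact add_mem h h'⟩
    | neg y _ hy =>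
      obtain ⟨a, ha, h⟩ := hy
      exact ⟨-a, neg_mem ha, by rw [← neg_sub']; exact neg_mem h⟩
    | mul y y' _ _ hy hy' =>
      obtain ⟨a, ha, h⟩ := hy; obtain ⟨b, hb, h'⟩ := hy'
      refine ⟨a * b, by simpa using SetLike.mul_mem_graded ha hb, ?_⟩
      rw [show y * y' - a * b = (y - a) * y' + a * (y' - b) by ring]
      exact add_mem (Ideal.mul_mem_right _ _ h) (Ideal.mul_mem_left _ _ h')
  intro x hx
  obtain ⟨a, ha, h⟩ := key x
  have hle : Ideal.span (𝒜 1 : Set A) ≤ (HomogeneousIdeal.irrelevant 𝒜).toIdeal :=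
    Ideal.span_le.2 fun y hy => HomogeneousIdeal.mem_irrelevant_of_mem _ Nat.one_pos hy
  have h1 : a ∈ (HomogeneousIdeal.irrelevant 𝒜).toIdeal := by
    have := sub_mem hx (hle h)
    rwa [sub_sub_cancel] at this
  have h2 : (GradedRing.projZeroRingHom 𝒜) a = 0 := by
    have := (HomogeneousIdeal.mem_irrelevant_iff (𝒜 := 𝒜) a).1 h1
    simpa [GradedRing.proj_apply] using this
  have h3 : a = 0 := by
    rw [← h2, GradedRing.projZeroRingHom_apply, DirectSum.decompose_of_mem_same 𝒜 ha]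
  simpa [h3] using h

end Groth.Agent.ConeFib5.Gen
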